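import Cfsg.Agent.Lib.TC.Enc

namespace Cfsg.Agent.Lib.TC.D.PA12C.S10_T0

open Cfsg.Agent.Lib.TC.Enc

set_option maxRecDepth 100000

/-- A part of a table. -/
noncomputable def tree : Tr Nat :=
  (Tr.leaf (nat_lit 0x8880003c052fbf66fb848b744476c42fb74efb03afaf2efa832fa6fefa02af9ebef9822f966ef901af8e0ef8812f859ef800af7d1ef79e20000f014ad9d5ad812ad7d1ad6102c70f1c50ead5c7ad40cad3bbad20aad1abad008acf97ace06acd7facc04acb63aca02ac943ac86880003c05270f367084a70726700426ff166f838ac4346bc326f6de6f02a6ee9e6e8226e64e6e01a6ddee6d8126d57e6d00a6ccfe6c9620000f0148adc18ac128abbd8aa108a9b98a80e8a7b58a60c29b0b1990a8a5a38a4088a38f8a2068a1778a00489f5b89e0289d3b89c4880003c051e5ec5e5849e56b5e5041e4ea5e4839e4695e4031e3e85e3828a142460c21e362de3019e2dcde2811e255de2009e1cdde18e20000f0146819d6801267f9967e1067d9567c0e67b9167a0c6798d6780a677896760826f0716d066756f674046735367202671336702880003c0515ae155a8495a6055a04159df559839595e55903158dd558829585c55802157db5578189641455c115753d5700956cbd568620000f014455694541245365452104516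14500e44f5d44e0c44d5944c0a44b5544a0844951448064474d4460424303141024452b4440880003c050cfd24cf848cf514cf040ced04ce838ce4f4ce030cdce4cd828cd4d4cd020cccc4cc818cc4b4cc010cbca4cb8088b4044ae600000f014117130151212925bdc1012723ac60e125219b00c1231f89a0a1211d7840811f1b66e0611d195580411b17442021191532c9000003c05004c9c85802f6b6c8a002b135c898026bb3c890022630c88801e0acc880019b27c8780155a1c87001101ac86800ca92c860000000f0002140011212011ed0101000feb00e0e00de900c0c00be700a0a009e500808007e300606005e100404003df00202001dd000))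

end Cfsg.Agent.Lib.TC.D.PA12C.S10_T0
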