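import Cfsg.Agent.Lib.TC.Enc

namespace Cfsg.Agent.Lib.TC.D.PA12C.S6_T0

open Cfsg.Agent.Lib.TC.Enc

set_option maxRecDepth 100000

/-- A part of a table. -/
noncomputable def tree : Tr Nat :=
  (Tr.leaf (nat_lit 0x910000c031efd17bc28aa891a621eecb7b819edc37b411ecb77b009eba77ace200018063519ad40534f92d3841470e314334d7ed30234b66d28134946d2144000300c58715610a58305600857ef55f06272145b8457abd5e025767d5d18800060188d5ca34148cdaa32108c58a300c8bd6a2e084ac18a9048b4da2c110000c030d3a934c28d2a534820d1a134418d09d34010cf9933c088e8113760000180608f1603450992af50409726d18309522ae020931e8a810911a67280000300c0165c87007a54c8c006893c8b0056d1c8a00450ec8900334ac880000006000430008a14026e8081001ed8060c016c8040800eb80204006a800))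

end Cfsg.Agent.Lib.TC.D.PA12C.S6_T0
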