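import Cfsg.Agent.Lib.TC.Enc

namespace Cfsg.Agent.Lib.TC.D.PA12C.S7_T0

open Cfsg.Agent.Lib.TC.Enc

set_option maxRecDepth 100000

/-- A part of a table. -/
noncomputable def tree : Tr Nat :=
  (Tr.leaf (nat_lit 0x1620001f83a3eb6c7c0c2e2163bc2a3db3c7a088f2bf1e01a3ba9c76048ea871d00a3997c72910000fc1cfb5a5f6063eb657d414584246f843e95b7d00cf9d3df3023e53f7c804f8cadf13880007e0e6bac2d7031adaeb5a0a6b2b2d6020a8838cf066ae96d5811aa9db54026a64ed49440003f072cd5559818b2d4565052c94d59010b1d2563031410517e08b14dd62012c323584620001f8391ea2a3c0c476828e8291c9ea380846e728d8191a9aa3404262062bc09198fa32110000fc1c6b4c4d6061ab2d354146a4a4d4041a72534c0c69484d2021a31d34404484044fe800007e0e1221a03c304e8cc700a1362ef80204c8ab500612e26b00104a88a30021261e683000003f0700d1b220011b9bc8e003de6b23400d398c8c002be5722c008b91c8a0019e33224000001f800870008c0c016f60282804bc8080800eee0181802ba80404006e60080800b8800))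

end Cfsg.Agent.Lib.TC.D.PA12C.S7_T0
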