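import Cfsg.Agent.Lib.TC.G.PA12
import Cfsg.Agent.Lib.TC.Chain
import Cfsg.Agent.Lib.TC.D.PA12C.S7_T0

namespace Cfsg.Agent.Lib.TC.D.PA12C.S7_Tab

open Cfsg.Agent.Lib.TC.Core Cfsg.Agent.Lib.TC.Enc Cfsg.Agent.Lib.TC.Pres Cfsg.Agent.Lib.TC.Perm Cfsg.Agent.Lib.TC.Main Cfsg.Agent.Lib.TC.Chain

set_option maxRecDepth 100000

/-- The chunks of the certificate. -/
noncomputable def ctree : Tr Nat := Cfsg.Agent.Lib.TC.D.PA12C.S7_T0.tree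

/-- The relator rotations. -/
noncomputable def rotT : Tr (List Nat) := (Tr.node (Tr.node (Tr.node (Tr.node (Tr.node (Tr.node (Tr.node (Tr.leaf [])
 (Tr.leaf [9,3,9,3]))
 (Tr.node (Tr.leaf [3,1,3,1])
 (Tr.leaf [11,7,11,7])))
 (Tr.node (Tr.node (Tr.leaf [1,1,1])
 (Tr.leaf [9,5,9,5]))
 (Tr.node (Tr.leaf [11,1,11,1])
 (Tr.leaf [13,11,13,11]))))
 (Tr.node (Tr.node (Tr.node (Tr.leaf [7,6])
 (Tr.leaf [13,3,13,3]))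
 (Tr.node (Tr.leaf [7,1,7,1])
 (Tr.leaf [11,9,11,9])))
 (Tr.node (Tr.node (Tr.leaf [9,9,9])
 (Tr.leaf [13,5,13,5]))
 (Tr.node (Tr.leaf [5,3,5,3])
 (Tr.leaf [13,11,13,11])))))
 (Tr.node (Tr.node (Tr.node (Tr.node (Tr.leaf [3,2])
 (Tr.leaf [11,3,11,3]))
 (Tr.node (Tr.leaf [5,1,5,1])
 (Tr.leaf [13,7,13,7])))
 (Tr.node (Tr.node (Tr.leaf [5,5,5])
 (Tr.leaf [11,5,11,5]))
 (Tr.node (Tr.leaf [13,1,13,1])
 (Tr.leaf [13,11,13,11]))))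
 (Tr.node (Tr.node (Tr.node (Tr.leaf [11,10])
 (Tr.leaf [7,5,7,5]))
 (Tr.node (Tr.leaf [9,1,9,1])
 (Tr.leaf [13,9,13,9])))
 (Tr.node (Tr.node (Tr.leaf [13,13,13])
 (Tr.leaf [9,7,9,7]))
 (Tr.node (Tr.leaf [7,3,7,3])
 (Tr.leaf [13,11,13,11]))))))
 (Tr.node (Tr.node (Tr.node (Tr.node (Tr.node (Tr.leaf [1,0])
 (Tr.leaf [3,11,3,11]))
 (Tr.node (Tr.leaf [1,5,1,5])
 (Tr.leaf [7,13,7,13])))
 (Tr.node (Tr.node (Tr.leaf [3,3,3])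
 (Tr.leaf [5,11,5,11]))
 (Tr.node (Tr.leaf [1,13,1,13])
 (Tr.leaf [13,11,13,11]))))
 (Tr.node (Tr.node (Tr.node (Tr.leaf [9,8])
 (Tr.leaf [5,7,5,7]))
 (Tr.node (Tr.leaf [1,9,1,9])
 (Tr.leaf [9,13,9,13])))
 (Tr.node (Tr.node (Tr.leaf [11,11,11])
 (Tr.leaf [7,9,7,9]))
 (Tr.node (Tr.leaf [3,7,3,7])
 (Tr.leaf [13,11,13,11])))))
 (Tr.node (Tr.node (Tr.node (Tr.node (Tr.leaf [5,4])
 (Tr.leaf [3,13,3,13]))
 (Tr.node (Tr.leaf [1,7,1,7])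
 (Tr.leaf [9,11,9,11])))
 (Tr.node (Tr.node (Tr.leaf [7,7,7])
 (Tr.leaf [5,13,5,13]))
 (Tr.node (Tr.leaf [3,5,3,5])
 (Tr.leaf [13,11,13,11]))))
 (Tr.node (Tr.node (Tr.node (Tr.leaf [13,12])
 (Tr.leaf [5,9,5,9]))
 (Tr.node (Tr.leaf [1,11,1,11])
 (Tr.leaf [11,13,11,13])))
 (Tr.node (Tr.node (Tr.leaf [1,3,1,3])
 (Tr.leaf [7,11,7,11]))
 (Tr.node (Tr.leaf [3,9,3,9])
 (Tr.leaf [13,11,13,11])))))))
 (Tr.node (Tr.node (Tr.node (Tr.node (Tr.node (Tr.node (Tr.leaf [0,1])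
 (Tr.leaf [10,2,10,2]))
 (Tr.node (Tr.leaf [4,0,4,0])
 (Tr.leaf [12,6,12,6])))
 (Tr.node (Tr.node (Tr.leaf [2,2,2])
 (Tr.leaf [10,4,10,4]))
 (Tr.node (Tr.leaf [12,0,12,0])
 (Tr.leaf [13,11,13,11]))))
 (Tr.node (Tr.node (Tr.node (Tr.leaf [8,9])
 (Tr.leaf [6,4,6,4]))
 (Tr.node (Tr.leaf [8,0,8,0])
 (Tr.leaf [12,8,12,8])))
 (Tr.node (Tr.node (Tr.leaf [10,10,10])
 (Tr.leaf [8,6,8,6]))
 (Tr.node (Tr.leaf [6,2,6,2])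
 (Tr.leaf [13,11,13,11])))))
 (Tr.node (Tr.node (Tr.node (Tr.node (Tr.leaf [4,5])
 (Tr.leaf [12,2,12,2]))
 (Tr.node (Tr.leaf [6,0,6,0])
 (Tr.leaf [10,8,10,8])))
 (Tr.node (Tr.node (Tr.leaf [6,6,6])
 (Tr.leaf [12,4,12,4]))
 (Tr.node (Tr.leaf [4,2,4,2])
 (Tr.leaf [13,11,13,11]))))
 (Tr.node (Tr.node (Tr.node (Tr.leaf [12,13])
 (Tr.leaf [8,4,8,4]))
 (Tr.node (Tr.leaf [10,0,10,0])
 (Tr.leaf [12,10,12,10])))
 (Tr.node (Tr.node (Tr.leaf [2,0,2,0])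
 (Tr.leaf [10,6,10,6]))
 (Tr.node (Tr.leaf [8,2,8,2])
 (Tr.leaf [13,11,13,11]))))))
 (Tr.node (Tr.node (Tr.node (Tr.node (Tr.node (Tr.leaf [2,3])
 (Tr.leaf [2,10,2,10]))
 (Tr.node (Tr.leaf [0,4,0,4])
 (Tr.leaf [6,12,6,12])))
 (Tr.node (Tr.node (Tr.leaf [4,4,4])
 (Tr.leaf [4,10,4,10]))
 (Tr.node (Tr.leaf [0,12,0,12])
 (Tr.leaf [13,11,13,11]))))
 (Tr.node (Tr.node (Tr.node (Tr.leaf [10,11])
 (Tr.leaf [4,6,4,6]))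
 (Tr.node (Tr.leaf [0,8,0,8])
 (Tr.leaf [8,12,8,12])))
 (Tr.node (Tr.node (Tr.leaf [12,12,12])
 (Tr.leaf [6,8,6,8]))
 (Tr.node (Tr.leaf [2,6,2,6])
 (Tr.leaf [13,11,13,11])))))
 (Tr.node (Tr.node (Tr.node (Tr.node (Tr.leaf [6,7])
 (Tr.leaf [2,12,2,12]))
 (Tr.node (Tr.leaf [0,6,0,6])
 (Tr.leaf [8,10,8,10])))
 (Tr.node (Tr.node (Tr.leaf [8,8,8])
 (Tr.leaf [4,12,4,12]))
 (Tr.node (Tr.leaf [2,4,2,4])
 (Tr.leaf [13,11,13,11]))))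
 (Tr.node (Tr.node (Tr.node (Tr.leaf [0,0,0])
 (Tr.leaf [4,8,4,8]))
 (Tr.node (Tr.leaf [0,10,0,10])
 (Tr.leaf [10,12,10,12])))
 (Tr.node (Tr.node (Tr.leaf [0,2,0,2])
 (Tr.leaf [6,10,6,10]))
 (Tr.node (Tr.leaf [2,8,2,8])
 (Tr.leaf [13,11,13,11]))))))))

/-- The subgroup rotations. -/
noncomputable def srotT : Tr (List Nat × Nat × List Nat) := (Tr.node (Tr.node (Tr.node (Tr.node (Tr.leaf ([],0,[]))
 (Tr.leaf ([],8,[])))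
 (Tr.node (Tr.leaf ([],4,[]))
 (Tr.leaf ([],11,[]))))
 (Tr.node (Tr.node (Tr.leaf ([],2,[]))
 (Tr.leaf ([],10,[])))
 (Tr.node (Tr.leaf ([],6,[]))
 (Tr.leaf ([],11,[])))))
 (Tr.node (Tr.node (Tr.node (Tr.leaf ([],1,[]))
 (Tr.leaf ([],9,[])))
 (Tr.node (Tr.leaf ([],5,[]))
 (Tr.leaf ([],11,[]))))
 (Tr.node (Tr.node (Tr.leaf ([],3,[]))
 (Tr.leaf ([],11,[])))
 (Tr.node (Tr.leaf ([],7,[]))
 (Tr.leaf ([],11,[]))))))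

/-- The certificate. -/
noncomputable def cert : Cert :=
  mkCert 14 9 126 2 113 125 4 15 297 19 266 289 524287 8388607 7 4 127 15 11 8 15 ctree.get rotT.get srotT.get

/-- The witnesses of the rotations. -/
noncomputable def witT : Tr (Nat × Nat × Bool) := (Tr.node (Tr.node (Tr.node (Tr.node (Tr.node (Tr.node (Tr.node (Tr.leaf (0,0,false))
 (Tr.leaf (15,1,true)))
 (Tr.node (Tr.leaf (7,1,true))
 (Tr.leaf (23,1,true))))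
 (Tr.node (Tr.node (Tr.leaf (0,0,true))
 (Tr.leaf (19,1,true)))
 (Tr.node (Tr.leaf (11,1,true))
 (Tr.leaf (27,1,true)))))
 (Tr.node (Tr.node (Tr.node (Tr.leaf (28,7,false))
 (Tr.leaf (17,1,true)))
 (Tr.node (Tr.leaf (9,1,true))
 (Tr.leaf (25,1,true))))
 (Tr.node (Tr.node (Tr.leaf (4,0,true))
 (Tr.leaf (21,1,true)))
 (Tr.node (Tr.leaf (13,1,true))
 (Tr.leaf (27,1,true))))))
 (Tr.node (Tr.node (Tr.node (Tr.node (Tr.leaf (28,3,false))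
 (Tr.leaf (16,1,true)))
 (Tr.node (Tr.leaf (8,1,true))
 (Tr.leaf (24,1,true))))
 (Tr.node (Tr.node (Tr.leaf (2,0,true))
 (Tr.leaf (20,1,true)))
 (Tr.node (Tr.leaf (12,1,true))
 (Tr.leaf (27,1,true)))))
 (Tr.node (Tr.node (Tr.node (Tr.leaf (28,11,false))
 (Tr.leaf (18,1,true)))
 (Tr.node (Tr.leaf (10,1,true))
 (Tr.leaf (26,1,true))))
 (Tr.node (Tr.node (Tr.leaf (6,0,true))
 (Tr.leaf (22,1,true)))
 (Tr.node (Tr.leaf (14,1,true))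
 (Tr.leaf (27,1,true)))))))
 (Tr.node (Tr.node (Tr.node (Tr.node (Tr.node (Tr.leaf (28,1,false))
 (Tr.leaf (16,0,true)))
 (Tr.node (Tr.leaf (8,0,true))
 (Tr.leaf (24,0,true))))
 (Tr.node (Tr.node (Tr.leaf (1,0,true))
 (Tr.leaf (20,0,true)))
 (Tr.node (Tr.leaf (12,0,true))
 (Tr.leaf (27,1,true)))))
 (Tr.node (Tr.node (Tr.node (Tr.leaf (28,9,false))
 (Tr.leaf (18,0,true)))
 (Tr.node (Tr.leaf (10,0,true))
 (Tr.leaf (26,0,true))))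
 (Tr.node (Tr.node (Tr.leaf (5,0,true))
 (Tr.leaf (22,0,true)))
 (Tr.node (Tr.leaf (14,0,true))
 (Tr.leaf (27,1,true))))))
 (Tr.node (Tr.node (Tr.node (Tr.node (Tr.leaf (28,5,false))
 (Tr.leaf (17,0,true)))
 (Tr.node (Tr.leaf (9,0,true))
 (Tr.leaf (25,0,true))))
 (Tr.node (Tr.node (Tr.leaf (3,0,true))
 (Tr.leaf (21,0,true)))
 (Tr.node (Tr.leaf (13,0,true))
 (Tr.leaf (27,1,true)))))
 (Tr.node (Tr.node (Tr.node (Tr.leaf (28,13,false))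
 (Tr.leaf (19,0,true)))
 (Tr.node (Tr.leaf (11,0,true))
 (Tr.leaf (27,0,true))))
 (Tr.node (Tr.node (Tr.leaf (7,0,true))
 (Tr.leaf (23,0,true)))
 (Tr.node (Tr.leaf (15,0,true))
 (Tr.leaf (27,1,true))))))))
 (Tr.node (Tr.node (Tr.node (Tr.node (Tr.node (Tr.node (Tr.leaf (28,0,false))
 (Tr.leaf (16,0,false)))
 (Tr.node (Tr.leaf (8,0,false))
 (Tr.leaf (24,0,false))))
 (Tr.node (Tr.node (Tr.leaf (1,0,false))
 (Tr.leaf (20,0,false)))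
 (Tr.node (Tr.leaf (12,0,false))
 (Tr.leaf (27,1,true)))))
 (Tr.node (Tr.node (Tr.node (Tr.leaf (28,8,false))
 (Tr.leaf (18,0,false)))
 (Tr.node (Tr.leaf (10,0,false))
 (Tr.leaf (26,0,false))))
 (Tr.node (Tr.node (Tr.leaf (5,0,false))
 (Tr.leaf (22,0,false)))
 (Tr.node (Tr.leaf (14,0,false))
 (Tr.leaf (27,1,true))))))
 (Tr.node (Tr.node (Tr.node (Tr.node (Tr.leaf (28,4,false))
 (Tr.leaf (17,0,false)))
 (Tr.node (Tr.leaf (9,0,false))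
 (Tr.leaf (25,0,false))))
 (Tr.node (Tr.node (Tr.leaf (3,0,false))
 (Tr.leaf (21,0,false)))
 (Tr.node (Tr.leaf (13,0,false))
 (Tr.leaf (27,1,true)))))
 (Tr.node (Tr.node (Tr.node (Tr.leaf (28,12,false))
 (Tr.leaf (19,0,false)))
 (Tr.node (Tr.leaf (11,0,false))
 (Tr.leaf (27,0,false))))
 (Tr.node (Tr.node (Tr.leaf (7,0,false))
 (Tr.leaf (23,0,false)))
 (Tr.node (Tr.leaf (15,0,false))
 (Tr.leaf (27,1,true)))))))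
 (Tr.node (Tr.node (Tr.node (Tr.node (Tr.node (Tr.leaf (28,2,false))
 (Tr.leaf (16,1,false)))
 (Tr.node (Tr.leaf (8,1,false))
 (Tr.leaf (24,1,false))))
 (Tr.node (Tr.node (Tr.leaf (2,0,false))
 (Tr.leaf (20,1,false)))
 (Tr.node (Tr.leaf (12,1,false))
 (Tr.leaf (27,1,true)))))
 (Tr.node (Tr.node (Tr.node (Tr.leaf (28,10,false))
 (Tr.leaf (18,1,false)))
 (Tr.node (Tr.leaf (10,1,false))
 (Tr.leaf (26,1,false))))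
 (Tr.node (Tr.node (Tr.leaf (6,0,false))
 (Tr.leaf (22,1,false)))
 (Tr.node (Tr.leaf (14,1,false))
 (Tr.leaf (27,1,true))))))
 (Tr.node (Tr.node (Tr.node (Tr.node (Tr.leaf (28,6,false))
 (Tr.leaf (17,1,false)))
 (Tr.node (Tr.leaf (9,1,false))
 (Tr.leaf (25,1,false))))
 (Tr.node (Tr.node (Tr.leaf (4,0,false))
 (Tr.leaf (21,1,false)))
 (Tr.node (Tr.leaf (13,1,false))
 (Tr.leaf (27,1,true)))))
 (Tr.node (Tr.node (Tr.node (Tr.leaf (0,0,false))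
 (Tr.leaf (19,1,false)))
 (Tr.node (Tr.leaf (11,1,false))
 (Tr.leaf (27,1,false))))
 (Tr.node (Tr.node (Tr.leaf (7,1,false))
 (Tr.leaf (23,1,false)))
 (Tr.node (Tr.leaf (15,1,false))
 (Tr.leaf (27,1,true)))))))))

/-- The letters. -/
def ls : List Nat := [0,1,2,3,4,5,6,7,8,9,10,11,12,13]

/-- The smaller letters. -/
def ls' : List Nat := [0,1,2,3,4,5,6,7,8,9,10,11]

/-- The inverses. -/
def inv' (c : Nat) : Nat := [1,0,3,2,5,4,7,6,9,8,11,10,13,12].getD c 0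

/-- The relators. -/
def rels' : List (List Nat) :=
  [[0,0,0],
   [2,2,2],
   [4,4,4],
   [6,6,6],
   [8,8,8],
   [10,10,10],
   [12,12,12],
   [2,0,2,0],
   [4,0,4,0],
   [6,0,6,0],
   [8,0,8,0],
   [10,0,10,0],
   [12,0,12,0],
   [4,2,4,2],
   [6,2,6,2],
   [8,2,8,2],
   [10,2,10,2],
   [12,2,12,2],
   [6,4,6,4],
   [8,4,8,4],
   [10,4,10,4],
   [12,4,12,4],
   [8,6,8,6],
   [10,6,10,6],
   [12,6,12,6],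
   [10,8,10,8],
   [12,8,12,8],
   [12,10,12,10]]

/-- The subgroup. -/
def subs' : List (List Nat) :=
  [[0],[1],[2],[3],[4],[5],[6],[7],[8],[9],[10],[11]]


end Cfsg.Agent.Lib.TC.D.PA12C.S7_Tab
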