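import Cfsg.Agent.Lib.TC.Enc

namespace Cfsg.Agent.Lib.TC.D.PA12C.S8_T0

open Cfsg.Agent.Lib.TC.Enc

set_option maxRecDepth 100000

/-- A part of a table. -/
noncomputable def tree : Tr Nat :=
  (Tr.leaf (nat_lit 0x6880002804267e3667838a443463c326761e6702a66dfe66822665ce6601a65d8e658126553e6500a64cde649620000a01088d8988c0e88b8588a0c27f0b17d0a8897b888088876f886068855f884048834b882028813388048800028041dee05de839de5f5de031ddde5dd8289b4245ac21dd5addd019dcd6ddc811dc51ddc009dbcbddb8e20000a010669756680e667716660c6656d6640a663696620825b0715906661576600465f4365e0265d2b65c2880002804155d9555839555855503154d7554829545655402153d55538189241451c11534fd5300952c9d528620000a010445514440e4434d4420c441494400a43f4543e0843d4143c0643b3d43a0423703135024392343808800028040ccce4cc838cc4d4cc030cbcc4cb828cb4b4cb020caca4ca818ca494ca010c9c84c98088940448de00000a0101130f0110e1211d9900c11f1b87e0a11d1976c0811b1765a0611915548041171343602115113247000002804003c7c8480263a3c880021f22c87801daa0c87001961dc868015199c860010d14c85800c88ec850000000a0002100010e0e00d9d00c0c00b9b00a0a009990080800797006060059500404003930020200191000))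

end Cfsg.Agent.Lib.TC.D.PA12C.S8_T0
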