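import Cfsg.Agent.Lib.TC.Enc

namespace Cfsg.Agent.Lib.TC.D.PA12C.S9_T0

open Cfsg.Agent.Lib.TC.Enc

set_option maxRecDepth 100000

/-- A part of a table. -/
noncomputable def tree : Tr Nat :=
  (Tr.leaf (nat_lit 0x1e20000c612ac5b1ac4102b50f1b30eac3abac20cac1a3ac00aabf97abe08abd87abc06abb73aba04ab95bab802ab73fab66880003184a6c6b66c0426bea66b838a843467c326b67e6b02a6ae4e6a8226a60e6a01a69dbe698126955e6900a68cee689620000c61289da589c1089ba189a0e8999d8980c28d0b18b0a8978f896088957f894068936b89204891538900288f3788e48800031849e2665e2041e1e55e1839e1645e1031e0e35e08289e4245dc21e05ede0019dfd9ddf811df53ddf009deccdde8e20000c6126758967410673856720e671816700c66f7d66e0a66d7966c08265071630666b6366a046694b668026672f66628800031849585d55804157dc557839575b55703156da556829565955602155d85558189441453c115551d5500954cad548620000c61244d5d44c1044b5944a0e449554480c447514460a4454d444084434944206441454400423d0313b0243f2743e08800031848ce504ce040cdcf4cd838cd4e4cd030cccd4cc828cc4c4cc020cbcb4cb818cb4a4cb010cac94ca8088a40449e200000c612115110131012521ab40e1231f9a00c1211d88c0a11f1b7780811d196640611b17550041191543c0211713328800000318480448c85002acacc8900267abc8880222a9c88001dda6c8780198a2c87001539dc868010e97c86000c990c858000000c600212001101000fc300e0e00dc100c0c00bbf00a0a009bd00808007bb00606005b900404003b700202001b5000))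

end Cfsg.Agent.Lib.TC.D.PA12C.S9_T0
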