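import Cfsg.Agent.Lib.TC.G.PA12
import Cfsg.Agent.Lib.TC.Chain
import Cfsg.Agent.Lib.TC.Iso

namespace Cfsg.Agent.Lib.TC.D.PA12C.T

open Cfsg.Agent.Lib.TC.Core Cfsg.Agent.Lib.TC.Enc Cfsg.Agent.Lib.TC.Pres Cfsg.Agent.Lib.TC.Perm Cfsg.Agent.Lib.TC.Main Cfsg.Agent.Lib.TC.Chain

set_option maxRecDepth 100000

open Cfsg.Agent.Lib.TC.G.PA12 Cfsg.Agent.Lib.TC.Chain.PermLev

/-- The columns on twelve points. -/
def tab : List (List Nat) :=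
  [[1,2,0,3,4,5,6,7,8,9,10,11],
   [2,0,1,3,4,5,6,7,8,9,10,11],
   [1,3,2,0,4,5,6,7,8,9,10,11],
   [3,0,2,1,4,5,6,7,8,9,10,11],
   [1,4,2,3,0,5,6,7,8,9,10,11],
   [4,0,2,3,1,5,6,7,8,9,10,11],
   [1,5,2,3,4,0,6,7,8,9,10,11],
   [5,0,2,3,4,1,6,7,8,9,10,11],
   [1,6,2,3,4,5,0,7,8,9,10,11],
   [6,0,2,3,4,5,1,7,8,9,10,11],
   [1,7,2,3,4,5,6,0,8,9,10,11],
   [7,0,2,3,4,5,6,1,8,9,10,11],
   [1,8,2,3,4,5,6,7,0,9,10,11],
   [8,0,2,3,4,5,6,7,1,9,10,11],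
   [1,9,2,3,4,5,6,7,8,0,10,11],
   [9,0,2,3,4,5,6,7,8,1,10,11],
   [1,10,2,3,4,5,6,7,8,9,0,11],
   [10,0,2,3,4,5,6,7,8,9,1,11],
   [1,11,2,3,4,5,6,7,8,9,10,0],
   [11,0,2,3,4,5,6,7,8,9,10,1]]

/-- The parents. -/
def tpL : List Nat := [0,0,1,1,1,1,1,1,1,1,1,1]

/-- The tree columns. -/
def tcL : List Nat := [0,0,0,2,4,6,8,10,12,14,16,18]

/-- The table on twelve points. -/
def pt12 : PT where
  n := 12
  k := 20
  T := fun c i => (tab.getD c []).getD i 0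
  inv := invF
  tp := fun i => tpL.getD i 0
  tc := fun i => tcL.getD i 0

theorem hgood12 : pt12.Good rels where
  hpos := by decide
  hinv := by decide +kernel
  hrels := by decide +kernel
  hchk := by decide +kernel

/-- The levels of a chain of stabilizers. -/
def levels12 : List Lev :=
  [⟨1,
   [[3,1,2],
    [5,3,4],
    [7,5,6],
    [9,7,8],
    [11,9,10],
    [13,11,12],
    [15,13,14],
    [17,15,16],
    [19,17,18],
    [19,0,18]],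
   [(2,1,0),
    (3,1,1),
    (4,1,2),
    (5,1,3),
    (6,1,4),
    (7,1,5),
    (8,1,6),
    (9,1,7),
    (10,1,8),
    (11,1,9)]⟩,
  ⟨2,
   [[4,2,0,3,5],
    [6,4,0,5,7],
    [8,6,0,7,9],
    [10,8,0,9,11],
    [12,10,0,11,13],
    [14,12,0,13,15],
    [16,14,0,15,17],
    [18,16,0,17,19],
    [19,3,0,2,18]],
   [(3,2,0),
    (4,2,1),
    (5,2,2),
    (6,2,3),
    (7,2,4),
    (8,2,5),
    (9,2,6),
    (10,2,7),
    (11,2,8)]⟩,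
  ⟨3,
   [[6,4,2,5,7],
    [8,6,2,7,9],
    [10,8,2,9,11],
    [12,10,2,11,13],
    [14,12,2,13,15],
    [16,14,2,15,17],
    [18,16,2,17,19],
    [19,5,2,4,18]],
   [(4,3,0),
    (5,3,1),
    (6,3,2),
    (7,3,3),
    (8,3,4),
    (9,3,5),
    (10,3,6),
    (11,3,7)]⟩,
  ⟨4,
   [[8,6,4,7,9],
    [10,8,4,9,11],
    [12,10,4,11,13],
    [14,12,4,13,15],
    [16,14,4,15,17],
    [18,16,4,17,19],
    [19,7,4,6,18]],
   [(5,4,0),
    (6,4,1),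
    (7,4,2),
    (8,4,3),
    (9,4,4),
    (10,4,5),
    (11,4,6)]⟩,
  ⟨5,
   [[10,8,6,9,11],
    [12,10,6,11,13],
    [14,12,6,13,15],
    [16,14,6,15,17],
    [18,16,6,17,19],
    [19,9,6,8,18]],
   [(6,5,0),
    (7,5,1),
    (8,5,2),
    (9,5,3),
    (10,5,4),
    (11,5,5)]⟩,
  ⟨6,
   [[12,10,8,11,13],
    [14,12,8,13,15],
    [16,14,8,15,17],
    [18,16,8,17,19],
    [19,11,8,10,18]],
   [(7,6,0),
    (8,6,1),
    (9,6,2),
    (10,6,3),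
    (11,6,4)]⟩,
  ⟨7,
   [[14,12,10,13,15],
    [16,14,10,15,17],
    [18,16,10,17,19],
    [19,13,10,12,18]],
   [(8,7,0),
    (9,7,1),
    (10,7,2),
    (11,7,3)]⟩,
  ⟨8,
   [[16,14,12,15,17],
    [18,16,12,17,19],
    [19,15,12,14,18]],
   [(9,8,0),
    (10,8,1),
    (11,8,2)]⟩,
  ⟨9,
   [[18,16,14,17,19],
    [19,17,14,16,18]],
   [(10,9,0),
    (11,9,1)]⟩]

theorem hlev12 : levsOK pt12 [0] levels12 = true := by decide +kernel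

theorem hprod12 : prodM levels12 = 19958400 := by decide +kernel

end Cfsg.Agent.Lib.TC.D.PA12C.T
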